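import Mathlib
import Cfsg.Prelude.Def_Sporadic_a
import Cfsg.Agent.Helper9.Steiner.Basic
import Cfsg.Agent.Helper9.Steiner.AutTransport

set_option autoImplicit false

/-!
The point-block graph of a set system: adjacency, the automorphisms induced by the automorphisms of
the set system, and the stabilizer of the extra vertex.
-/

namespace Cfsg.Agent.Helper9.HSG

open Cfsg Cfsg.Agent.Helper9.Steiner

variable {α : Type*} (B : Set (Finset α))

theorem adj_iff (x y : Option (α ⊕ B)) : (pointBlockGraph B).Adj x y ↔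
    x ≠ y ∧ (pointBlockRel B x y ∨ pointBlockRel B y x) :=
  SimpleGraph.fromRel_adj _ _ _

theorem adj_none_inl (a : α) : (pointBlockGraph B).Adj none (some (Sum.inl a)) := by
  rw [adj_iff]
  exact ⟨by simp, Or.inl trivial⟩

theorem adj_none_iff (v : Option (α ⊕ B)) :
    (pointBlockGraph B).Adj none v ↔ ∃ a : α, v = some (Sum.inl a) := by
  constructor
  · intro h
    rw [adj_iff] at h
    rcases v with _ | (a | b)
    · exact absurd rfl h.1
    · exact ⟨a, rfl⟩
    · rcases h.2 with h | h <;> exact h.elim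
  · rintro ⟨a, rfl⟩
    exact adj_none_inl B a

theorem adj_inl_inr (a : α) (b : B) :
    (pointBlockGraph B).Adj (some (Sum.inl a)) (some (Sum.inr b)) ↔ a ∈ (b : Finset α) := by
  rw [adj_iff]
  constructor
  · rintro ⟨_, h | h⟩
    · exact h
    · exact h.elim
  · intro h
    exact ⟨by simp, Or.inl h⟩

theorem adj_inr_inr (b c : B) :
    (pointBlockGraph B).Adj (some (Sum.inr b)) (some (Sum.inr c)) ↔
      b ≠ c ∧ Disjoint (b : Finset α) (c : Finset α) := by
  rw [adj_iff]
  constructor
  · rintro ⟨hne, h | h⟩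
    · exact ⟨fun h' => hne (by rw [h']), h⟩
    · exact ⟨fun h' => hne (by rw [h']), h.symm⟩
  · rintro ⟨hne, h⟩
    refine ⟨fun h' => hne ?_, Or.inl h⟩
    exact Sum.inr_injective (Option.some_injective _ h')

theorem not_adj_inl_inl (a a' : α) :
    ¬ (pointBlockGraph B).Adj (some (Sum.inl a)) (some (Sum.inl a')) := by
  rw [adj_iff]
  rintro ⟨_, h | h⟩ <;> exact h.elim

end Cfsg.Agent.Helper9.HSG
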