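import Mathlib
import Cfsg.Prelude.Def_Sporadic_a
import Cfsg.Agent.Helper9.HSG.Basic

set_option autoImplicit false

/-!
The automorphisms of the point-block graph induced by the automorphisms of the set system; they are
exactly the automorphisms fixing the extra vertex.
-/

namespace Cfsg.Agent.Helper9.HSG

open Cfsg Cfsg.Agent.Helper9.Steiner

variable {α : Type*} [DecidableEq α] (B : Set (Finset α))

theorem image_mem_of_aut {g : Equiv.Perm α} (hg : g ∈ setSystemAut B) {b : Finset α}
    (hb : b ∈ B) : b.image g ∈ B := by
  have h := (mem_aut_iff g B).1 hg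
  rw [← h]
  exact ⟨b, hb, rfl⟩

/-- the action of the automorphisms of the set system on the blocks. -/
instance blockAction : MulAction (setSystemAut B) B where
  smul g b := ⟨(b : Finset α).image (g : Equiv.Perm α), image_mem_of_aut B g.2 b.2⟩
  one_smul b := by
    apply Subtype.ext
    change (b : Finset α).image ((1 : Equiv.Perm α)) = b
    simp
  mul_smul g h b := by
    apply Subtype.ext
    change (b : Finset α).image ((g : Equiv.Perm α) * (h : Equiv.Perm α)) =
      ((b : Finset α).image (h : Equiv.Perm α)).image (g : Equiv.Perm α)
    rw [Finset.image_image]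
    rfl

theorem coe_smul_block (g : setSystemAut B) (b : B) :
    ((g • b : B) : Finset α) = (b : Finset α).image (g : Equiv.Perm α) := rfl

theorem smul_none (g : setSystemAut B) : g • (none : Option (α ⊕ B)) = none := rfl

theorem smul_inl (g : setSystemAut B) (a : α) :
    g • (some (Sum.inl a) : Option (α ⊕ B)) = some (Sum.inl ((g : Equiv.Perm α) a)) := rfl

theorem smul_inr (g : setSystemAut B) (b : B) :
    g • (some (Sum.inr b) : Option (α ⊕ B)) = some (Sum.inr (g • b)) := rfl

theorem adj_smul (g : setSystemAut B) {x y : Option (α ⊕ B)}
    (h : (pointBlockGraph B).Adj x y) : (pointBlockGraph B).Adj (g • x) (g • y) := by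
  rcases x with _ | (a | b) <;> rcases y with _ | (a' | b')
  · exact absurd h (SimpleGraph.irrefl _)
  · rw [smul_none, smul_inl]; exact adj_none_inl B _
  · exact absurd h (by rw [adj_none_iff]; rintro ⟨a, ha⟩; simp at ha)
  · rw [smul_none, smul_inl]; exact (adj_none_inl B _).symm
  · exact absurd h (not_adj_inl_inl B a a')
  · rw [smul_inl, smul_inr, adj_inl_inr, coe_smul_block]
    rw [adj_inl_inr] at h
    exact Finset.mem_image_of_mem _ h
  · exact absurd h.symm (by rw [adj_none_iff]; rintro ⟨a, ha⟩; simp at ha)
  · rw [smul_inl, smul_inr]
    apply SimpleGraph.Adj.symm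
    rw [adj_inl_inr, coe_smul_block]
    have h' := h.symm
    rw [adj_inl_inr] at h'
    exact Finset.mem_image_of_mem _ h'
  · rw [smul_inr, smul_inr, adj_inr_inr]
    rw [adj_inr_inr] at h
    refine ⟨fun he => h.1 ?_, ?_⟩
    · have := congrArg (fun c : B => g⁻¹ • c) he
      simpa using this
    · rw [coe_smul_block, coe_smul_block,
        Finset.disjoint_image (g : Equiv.Perm α).injective]
      exact h.2

theorem adj_smul_iff (g : setSystemAut B) (x y : Option (α ⊕ B)) :
    (pointBlockGraph B).Adj (g • x) (g • y) ↔ (pointBlockGraph B).Adj x y := by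
  constructor
  · intro h
    have := adj_smul B g⁻¹ h
    simpa using this
  · exact adj_smul B g

/-- the automorphism of the point-block graph induced by an automorphism of the set system. -/
def autOf : setSystemAut B →* (pointBlockGraph B ≃g pointBlockGraph B) where
  toFun g := { toEquiv := MulAction.toPerm g, map_rel_iff' := adj_smul_iff B g _ _ }
  map_one' := by
    apply RelIso.ext
    intro x
    exact one_smul (setSystemAut B) x
  map_mul' g h := by
    apply RelIso.ext
    intro x
    exact mul_smul g h x

theorem autOf_apply (g : setSystemAut B) (x : Option (α ⊕ B)) : autOf B g x = g • x := rfl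

theorem autOf_injective : Function.Injective (autOf B) := by
  rw [injective_iff_map_eq_one]
  intro g hg
  apply Subtype.ext
  ext a
  have h1 : autOf B g (some (Sum.inl a)) = some (Sum.inl a) := by rw [hg]; rfl
  rw [autOf_apply, smul_inl] at h1
  exact Sum.inl_injective (Option.some_injective _ h1)

end Cfsg.Agent.Helper9.HSG
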