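import Mathlib
import Cfsg.Prelude.Def_Sporadic_a
import Cfsg.Agent.Helper9.HSG.Basic

set_option autoImplicit false

/-!
Isomorphic set systems have isomorphic point-block graphs; isomorphic graphs have isomorphic
automorphism groups.
-/

namespace Cfsg.Agent.Helper9.HSG

open Cfsg Cfsg.Agent.Helper9.Steiner

/-- the automorphism groups of isomorphic graphs are isomorphic. -/
def autIsoCongr {V W : Type*} {G : SimpleGraph V} {H : SimpleGraph W} (ψ : G ≃g H) :
    (G ≃g G) ≃* (H ≃g H) where
  toFun φ := (ψ.symm.trans φ).trans ψ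
  invFun φ := (ψ.trans φ).trans ψ.symm
  left_inv φ := by
    apply RelIso.ext
    intro x
    simp
  right_inv φ := by
    apply RelIso.ext
    intro x
    simp
  map_mul' f g := by
    apply RelIso.ext
    intro x
    simp [RelIso.mul_apply]

theorem autIsoCongr_apply {V W : Type*} {G : SimpleGraph V} {H : SimpleGraph W} (ψ : G ≃g H)
    (φ : G ≃g G) (x : V) : autIsoCongr ψ φ (ψ x) = ψ (φ x) := by
  change ψ (φ (ψ.symm (ψ x))) = ψ (φ x)
  rw [RelIso.symm_apply_apply]

variable {α β : Type*} [DecidableEq α] [DecidableEq β]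

/-- the bijection between the blocks of isomorphic set systems. -/
def blockCongr (e : α ≃ β) (B : Set (Finset α)) : B ≃ (mapSys e B : Set (Finset β)) where
  toFun b := ⟨(b : Finset α).image e, ⟨b.1, b.2, rfl⟩⟩
  invFun c := ⟨(c : Finset β).image e.symm, (mem_mapSys e B c.1).1 c.2⟩
  left_inv b := by
    apply Subtype.ext
    simp [Finset.image_image]
  right_inv c := by
    apply Subtype.ext
    simp [Finset.image_image]

theorem coe_blockCongr (e : α ≃ β) (B : Set (Finset α)) (b : B) :
    ((blockCongr e B b : (mapSys e B : Set (Finset β))) : Finset β) = (b : Finset α).image e := rfl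

/-- the bijection between the vertices of the point-block graphs. -/
def vtxCongr (e : α ≃ β) (B : Set (Finset α)) :
    Option (α ⊕ B) ≃ Option (β ⊕ (mapSys e B : Set (Finset β))) :=
  Equiv.optionCongr (Equiv.sumCongr e (blockCongr e B))

theorem vtxCongr_none (e : α ≃ β) (B : Set (Finset α)) : vtxCongr e B none = none := rfl

theorem vtxCongr_inl (e : α ≃ β) (B : Set (Finset α)) (a : α) :
    vtxCongr e B (some (Sum.inl a)) = some (Sum.inl (e a)) := rfl

theorem vtxCongr_inr (e : α ≃ β) (B : Set (Finset α)) (b : B) :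
    vtxCongr e B (some (Sum.inr b)) = some (Sum.inr (blockCongr e B b)) := rfl

theorem adj_vtxCongr (e : α ≃ β) (B : Set (Finset α)) (x y : Option (α ⊕ B)) :
    (pointBlockGraph (mapSys e B)).Adj (vtxCongr e B x) (vtxCongr e B y) ↔
      (pointBlockGraph B).Adj x y := by
  rcases x with _ | (a | b) <;> rcases y with _ | (a' | b')
  · simp
  · rw [vtxCongr_none, vtxCongr_inl]
    exact ⟨fun _ => adj_none_inl B _, fun _ => adj_none_inl _ _⟩
  · rw [vtxCongr_none, vtxCongr_inr, adj_none_iff, adj_none_iff]
    constructor <;> rintro ⟨a, ha⟩ <;> simp at ha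
  · rw [vtxCongr_none, vtxCongr_inl]
    exact ⟨fun _ => (adj_none_inl B _).symm, fun _ => (adj_none_inl _ _).symm⟩
  · rw [vtxCongr_inl, vtxCongr_inl]
    exact ⟨fun h => absurd h (not_adj_inl_inl _ _ _), fun h => absurd h (not_adj_inl_inl _ _ _)⟩
  · rw [vtxCongr_inl, vtxCongr_inr, adj_inl_inr, adj_inl_inr, coe_blockCongr]
    constructor
    · intro h
      rw [Finset.mem_image] at h
      obtain ⟨a0, ha0, h0⟩ := h
      rwa [← e.injective h0]
    · intro h
      exact Finset.mem_image_of_mem _ h
  · rw [vtxCongr_none, vtxCongr_inr, SimpleGraph.adj_comm, adj_none_iff,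
      SimpleGraph.adj_comm, adj_none_iff]
    constructor <;> rintro ⟨a, ha⟩ <;> simp at ha
  · rw [vtxCongr_inl, vtxCongr_inr, SimpleGraph.adj_comm, adj_inl_inr,
      SimpleGraph.adj_comm (pointBlockGraph B), adj_inl_inr, coe_blockCongr]
    constructor
    · intro h
      rw [Finset.mem_image] at h
      obtain ⟨a0, ha0, h0⟩ := h
      rwa [← e.injective h0]
    · intro h
      exact Finset.mem_image_of_mem _ h
  · rw [vtxCongr_inr, vtxCongr_inr, adj_inr_inr, adj_inr_inr, coe_blockCongr, coe_blockCongr,
      Finset.disjoint_image e.injective]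
    constructor
    · rintro ⟨h1, h2⟩
      exact ⟨fun h => h1 (by rw [h]), h2⟩
    · rintro ⟨h1, h2⟩
      exact ⟨fun h => h1 ((blockCongr e B).injective h), h2⟩

/-- the isomorphism of the point-block graphs of isomorphic set systems. -/
def pbgCongr (e : α ≃ β) (B : Set (Finset α)) :
    pointBlockGraph B ≃g pointBlockGraph (mapSys e B) where
  toEquiv := vtxCongr e B
  map_rel_iff' := adj_vtxCongr e B _ _

end Cfsg.Agent.Helper9.HSG
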