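import Mathlib

set_option autoImplicit false

/-!
Group-theoretic lemmas on homomorphisms to the group of signs and on subgroups of index two.
-/

namespace Cfsg.Agent.Helper9.HSG

open MulAction

theorem card_int_units : Nat.card ℤˣ = 2 := by
  rw [Nat.card_eq_fintype_card]; rfl

/-- a homomorphism from a simple group with more than two elements to the signs is trivial. -/
theorem hom_trivial_of_simple {K : Type*} [Group K] [IsSimpleGroup K] (hK : 2 < Nat.card K)
    (f : K →* ℤˣ) (k : K) : f k = 1 := by
  rcases Subgroup.Normal.eq_bot_or_eq_top (inferInstance : f.ker.Normal) with h | h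
  · exfalso
    have hinj : Function.Injective f := (MonoidHom.ker_eq_bot_iff f).1 h
    have h1 : Nat.card K ≤ Nat.card ℤˣ := Nat.card_le_card_of_injective f hinj
    rw [card_int_units] at h1
    omega
  · have h1 : k ∈ f.ker := by rw [h]; trivial
    exact MonoidHom.mem_ker.1 h1

/-- the kernel of a homomorphism onto the signs has index two. -/
theorem index_ker_of_neg_one {A : Type*} [Group A] (f : A →* ℤˣ) (a : A) (ha : f a = -1) :
    f.ker.index = 2 := by
  rw [Subgroup.index_ker]
  have h1 : Nat.card f.range ∣ 2 := by
    rw [← card_int_units]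
    exact Subgroup.card_subgroup_dvd_card _
  have h2 : Nat.card f.range ≠ 1 := by
    intro h
    rw [Subgroup.card_eq_one] at h
    have h3 : f a ∈ f.range := ⟨a, rfl⟩
    rw [h, Subgroup.mem_bot, ha] at h3
    exact absurd h3 (by decide)
  have h3 : Nat.card f.range ≤ 2 := Nat.le_of_dvd (by norm_num) h1
  have h4 : Nat.card f.range ≠ 0 := by
    intro h
    rw [h] at h1
    omega
  omega

/-- the kernel of a homomorphism to the signs is transitive if the group is and some element of
sign `-1` fixes a point. -/
theorem exists_ker_smul_eq {A X : Type*} [Group A] [MulAction A X] [IsPretransitive A X]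
    (f : A →* ℤˣ) (x0 : X) (τ : A) (hτ : f τ = -1) (hτx : τ • x0 = x0) (x : X) :
    ∃ h ∈ f.ker, h • x0 = x := by
  obtain ⟨φ, hφ⟩ := exists_smul_eq A x0 x
  rcases Int.units_eq_one_or (f φ) with h1 | h1
  · exact ⟨φ, MonoidHom.mem_ker.2 h1, hφ⟩
  · refine ⟨φ * τ, ?_, ?_⟩
    · rw [MonoidHom.mem_ker, map_mul, h1, hτ]
      decide
    · rw [mul_smul, hτx, hφ]

/-- a subgroup of index two of a group acting transitively on an odd number of points acts
transitively. -/
theorem pretransitive_of_index_two {G X : Type*} [Group G] [Finite G] [MulAction G X]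
    [IsPretransitive G X] [Finite X] (K : Subgroup G) (hK : K.index = 2)
    (hodd : Odd (Nat.card X)) : IsPretransitive K X := by
  classical
  have hne : Nonempty X := by
    by_contra h
    rw [not_nonempty_iff] at h
    rw [Nat.card_of_isEmpty] at hodd
    exact absurd hodd (by decide)
  obtain ⟨x⟩ := hne
  -- orbit-stabilizer for `G` and `K`
  have hG : Nat.card X * Nat.card (stabilizer G x) = Nat.card G := by
    rw [← index_stabilizer_of_transitive G x, Subgroup.index_mul_card]
  have hKo : (orbit K x).ncard * Nat.card (stabilizer K x) = Nat.card K := by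
    rw [← index_stabilizer K x, Subgroup.index_mul_card]
  have hKG : 2 * Nat.card K = Nat.card G := by
    rw [← hK, Subgroup.index_mul_card]
  -- the stabilizer in `K` embeds in the stabilizer in `G`
  have hle : Nat.card (stabilizer K x) ≤ Nat.card (stabilizer G x) := by
    apply Nat.card_le_card_of_injective
      (fun k : stabilizer K x => (⟨(k : K), k.2⟩ : stabilizer G x))
    intro k k' h
    apply Subtype.ext
    apply Subtype.ext
    exact congrArg (fun g : stabilizer G x => (g : G)) h
  have hpos : 0 < Nat.card (stabilizer K x) := Nat.card_pos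
  have hposG : 0 < Nat.card (stabilizer G x) := Nat.card_pos
  have horb : (orbit K x).ncard ≤ Nat.card X := Set.ncard_le_card _
  -- `2 * orbit * |K_x| = |X| * |G_x|`
  have hkey : 2 * ((orbit K x).ncard * Nat.card (stabilizer K x)) =
      Nat.card X * Nat.card (stabilizer G x) := by
    rw [hKo, hKG, hG]
  -- the orbit is everything
  have hfull : (orbit K x).ncard = Nat.card X := by
    by_contra hne
    have hlt : (orbit K x).ncard < Nat.card X := lt_of_le_of_ne horb hne
    -- `|G_x|` divides `2 * orbit * |K_x|` ... use parity: `|K_x|` divides `|G_x|`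
    have hdvd : Nat.card (stabilizer K x) ∣ Nat.card (stabilizer G x) := by
      have : Nat.card (stabilizer K x) = Nat.card ((stabilizer K x).map K.subtype) :=
        Nat.card_congr ((stabilizer K x).equivMapOfInjective K.subtype
          K.subtype_injective).toEquiv
      rw [this]
      have hsub : (stabilizer K x).map K.subtype ≤ stabilizer G x := by
        rintro _ ⟨k, hk, rfl⟩
        exact hk
      exact Subgroup.card_dvd_of_le hsub
    obtain ⟨j, hj⟩ := hdvd
    rw [hj] at hkey
    have hkey' : 2 * (orbit K x).ncard = Nat.card X * j := by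
      have : Nat.card (stabilizer K x) * (2 * (orbit K x).ncard) =
          Nat.card (stabilizer K x) * (Nat.card X * j) := by
        calc Nat.card (stabilizer K x) * (2 * (orbit K x).ncard)
            = 2 * ((orbit K x).ncard * Nat.card (stabilizer K x)) := by ring
          _ = Nat.card X * (Nat.card (stabilizer K x) * j) := hkey
          _ = Nat.card (stabilizer K x) * (Nat.card X * j) := by ring
      exact Nat.eq_of_mul_eq_mul_left hpos this
    obtain ⟨m, hm⟩ := hodd
    have hj2 : j < 2 := by
      by_contra hge
      have : 2 ≤ j := by omega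
      have : Nat.card X * 2 ≤ Nat.card X * j := Nat.mul_le_mul_left _ this
      omega
    have hj0 : j ≠ 0 := by
      rintro rfl
      rw [Nat.mul_zero] at hj
      omega
    have hj1 : j = 1 := by omega
    rw [hj1, hm] at hkey'
    omega
  constructor
  intro y z
  have huniv : orbit K x = Set.univ := by
    rw [Set.eq_univ_iff_ncard]
    exact hfull
  have hy : y ∈ orbit K x := by rw [huniv]; trivial
  have hz : z ∈ orbit K x := by rw [huniv]; trivial
  obtain ⟨gy, hgy⟩ := hy
  obtain ⟨gz, hgz⟩ := hz
  refine ⟨gz * gy⁻¹, ?_⟩
  rw [← hgy, ← hgz, mul_smul, inv_smul_smul]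

end Cfsg.Agent.Helper9.HSG
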