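import Mathlib
import Cfsg.Prelude.Def_Sporadic_a
import Cfsg.Agent.Helper9.HSG.Basic
import Cfsg.Agent.Helper9.Steiner.D3622M

set_option autoImplicit false

/-!
The point-block graph of the standard system S(3, 6, 22) of the search `D3622M` with its vertices
numbered `0, …, 99`, and an automorphism moving the extra vertex, given by a table.
-/

namespace Cfsg.Agent.Helper9.HSG.Model

open Cfsg Cfsg.Agent.Helper9.Steiner

/-- the parameters. -/
abbrev P : Params := D3622M.P

theorem n_eq : P.n = 22 := rfl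

set_option maxRecDepth 100000 in
theorem len_std : P.std.length = 77 := by decide +kernel

/-- the mask of the block with a given index. -/
def bm (j : ℕ) : ℕ := P.std.getD j 0

theorem bm_mem {j : ℕ} (hj : j < 77) : bm j ∈ P.std := by
  unfold bm
  rw [List.getD_eq_getElem _ _ (by rw [len_std]; exact hj)]
  exact List.getElem_mem _

theorem std_lt {s : ℕ} (hs : s ∈ P.std) : s < 2 ^ P.n := by
  have := List.all_eq_true.1 D3622M.checked.lt s hs
  simpa using this

theorem std_nodup : P.std.Nodup := nodup_of_nd _ D3622M.checked.nodup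

/-- the vertex with a given number. -/
def dec (i : ℕ) : Option (Fin P.n ⊕ ↥(stdSet P)) :=
  if i = 0 then none
  else if h : i ≤ 22 then some (Sum.inl ⟨i - 1, by rw [n_eq]; omega⟩)
  else if h2 : i - 23 < 77 then
    some (Sum.inr ⟨finOf P.n (bm (i - 23)), ⟨_, bm_mem h2, rfl⟩⟩)
  else none

/-- the number of a vertex. -/
def enc : Option (Fin P.n ⊕ ↥(stdSet P)) → ℕ
  | none => 0
  | some (Sum.inl a) => a.val + 1
  | some (Sum.inr b) => 23 + P.std.idxOf (maskOf (b : Finset (Fin P.n)))

theorem dec_zero : dec 0 = none := rfl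

theorem dec_pt (a : Fin P.n) : dec (a.val + 1) = some (Sum.inl a) := by
  have ha : a.val < 22 := a.isLt
  unfold dec
  rw [if_neg (by omega), dif_pos (by omega)]
  rfl

theorem dec_blk {j : ℕ} (hj : j < 77) :
    dec (23 + j) = some (Sum.inr ⟨finOf P.n (bm j), ⟨_, bm_mem hj, rfl⟩⟩) := by
  unfold dec
  rw [if_neg (by omega), dif_neg (by omega), dif_pos (by omega)]
  have : 23 + j - 23 = j := by omega
  simp only [this]

theorem idxOf_bm {j : ℕ} (hj : j < 77) : P.std.idxOf (bm j) = j := by
  unfold bm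
  rw [List.getD_eq_getElem _ _ (by rw [len_std]; exact hj)]
  exact std_nodup.idxOf_getElem _ _

theorem bm_idxOf {s : ℕ} (hs : s ∈ P.std) : bm (P.std.idxOf s) = s ∧ P.std.idxOf s < 77 := by
  have h1 : P.std.idxOf s < P.std.length := List.idxOf_lt_length_of_mem hs
  refine ⟨?_, by rw [← len_std]; exact h1⟩
  unfold bm
  rw [List.getD_eq_getElem _ _ h1]
  exact List.getElem_idxOf _

theorem dec_enc (v : Option (Fin P.n ⊕ ↥(stdSet P))) : dec (enc v) = v := by
  rcases v with _ | (a | ⟨b, s, hs, rfl⟩)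
  · rfl
  · exact dec_pt a
  · change dec (23 + P.std.idxOf (maskOf (finOf P.n s))) = _
    rw [maskOf_finOf (std_lt hs)]
    obtain ⟨h1, h2⟩ := bm_idxOf hs
    rw [dec_blk h2]
    congr 2
    apply Subtype.ext
    simp only
    rw [h1]

theorem enc_lt (v : Option (Fin P.n ⊕ ↥(stdSet P))) : enc v < 100 := by
  rcases v with _ | (a | ⟨b, s, hs, rfl⟩)
  · exact Nat.zero_lt_succ _
  · have ha : a.val < 22 := a.isLt
    change a.val + 1 < 100
    omega
  · change 23 + P.std.idxOf (maskOf (finOf P.n s)) < 100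
    rw [maskOf_finOf (std_lt hs)]
    have := (bm_idxOf hs).2
    omega

theorem enc_dec {i : ℕ} (hi : i < 100) : enc (dec i) = i := by
  rcases Nat.eq_zero_or_pos i with rfl | hpos
  · rfl
  · by_cases h : i ≤ 22
    · have : i = (⟨i - 1, by rw [n_eq]; omega⟩ : Fin P.n).val + 1 := by
        simp only; omega
      rw [this, dec_pt]
      rfl
    · have hj : i - 23 < 77 := by omega
      have : i = 23 + (i - 23) := by omega
      rw [this, dec_blk hj]
      change 23 + P.std.idxOf (maskOf (finOf P.n (bm (i - 23)))) = 23 + (i - 23)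
      rw [maskOf_finOf (std_lt (bm_mem hj)), idxOf_bm hj]

/-- adjacency in terms of the numbers of the vertices. -/
def adjC (i j : ℕ) : Bool :=
  if i = 0 then decide (1 ≤ j) && decide (j ≤ 22)
  else if i ≤ 22 then
    decide (j = 0) || (decide (23 ≤ j) && (bm (j - 23)).testBit (i - 1))
  else
    (decide (1 ≤ j) && decide (j ≤ 22) && (bm (i - 23)).testBit (j - 1)) ||
      (decide (23 ≤ j) && !decide (i = j) && (bm (i - 23) &&& bm (j - 23) == 0))

theorem finOf_eq_empty_iff {n m : ℕ} (hm : m < 2 ^ n) : finOf n m = ∅ ↔ m = 0 := by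
  constructor
  · intro h
    apply eq_zero_of_cnt hm
    rw [← card_finOf, h, Finset.card_empty]
  · rintro rfl
    ext i
    simp [mem_finOf]

theorem disjoint_finOf_iff {n s t : ℕ} (hs : s < 2 ^ n) :
    Disjoint (finOf n s) (finOf n t) ↔ s &&& t = 0 := by
  rw [Finset.disjoint_iff_inter_eq_empty, ← finOf_and,
    finOf_eq_empty_iff (lt_of_le_of_lt Nat.and_le_left hs)]

theorem adj_pt_blk (a : Fin P.n) {j : ℕ} (hj : j < 77) :
    (pointBlockGraph (stdSet P)).Adj (dec (a.val + 1)) (dec (23 + j)) ↔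
      (bm j).testBit a.val = true := by
  rw [dec_pt, dec_blk hj, adj_inl_inr]
  exact mem_finOf

theorem blk_ne_iff {j j' : ℕ} (hj : j < 77) (hj' : j' < 77) :
    (⟨finOf P.n (bm j), ⟨_, bm_mem hj, rfl⟩⟩ : ↥(stdSet P)) ≠
      ⟨finOf P.n (bm j'), ⟨_, bm_mem hj', rfl⟩⟩ ↔ j ≠ j' := by
  rw [not_iff_not]
  constructor
  · intro h
    have h1 : finOf P.n (bm j) = finOf P.n (bm j') := congrArg Subtype.val h
    have h2 : bm j = bm j' := by
      rw [← maskOf_finOf (std_lt (bm_mem hj)), h1, maskOf_finOf (std_lt (bm_mem hj'))]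
    rw [← idxOf_bm hj, h2, idxOf_bm hj']
  · rintro rfl
    rfl

theorem adj_blk_blk {j j' : ℕ} (hj : j < 77) (hj' : j' < 77) :
    (pointBlockGraph (stdSet P)).Adj (dec (23 + j)) (dec (23 + j')) ↔
      j ≠ j' ∧ bm j &&& bm j' = 0 := by
  rw [dec_blk hj, dec_blk hj', adj_inr_inr, blk_ne_iff hj hj']
  simp only
  rw [disjoint_finOf_iff (std_lt (bm_mem hj))]

theorem code_cases {i : ℕ} (hi : i < 100) :
    i = 0 ∨ (∃ a : Fin P.n, i = a.val + 1) ∨ ∃ k, k < 77 ∧ i = 23 + k := by
  rcases Nat.eq_zero_or_pos i with h0 | hpos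
  · exact Or.inl h0
  · by_cases h : i ≤ 22
    · exact Or.inr (Or.inl ⟨⟨i - 1, by rw [n_eq]; omega⟩, by simp only; omega⟩)
    · exact Or.inr (Or.inr ⟨i - 23, by omega, by omega⟩)

theorem adjC_zero (j : ℕ) : adjC 0 j = (decide (1 ≤ j) && decide (j ≤ 22)) := by
  unfold adjC
  rw [if_pos rfl]

theorem adjC_pt (a : Fin P.n) (j : ℕ) : adjC (a.val + 1) j =
    (decide (j = 0) || (decide (23 ≤ j) && (bm (j - 23)).testBit a.val)) := by
  have ha : a.val < 22 := a.isLt
  unfold adjC
  rw [if_neg (by omega), if_pos (by omega)]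
  rfl

theorem adjC_blk (k : ℕ) (j : ℕ) : adjC (23 + k) j =
    ((decide (1 ≤ j) && decide (j ≤ 22) && (bm k).testBit (j - 1)) ||
      (decide (23 ≤ j) && !decide (23 + k = j) && (bm k &&& bm (j - 23) == 0))) := by
  unfold adjC
  rw [if_neg (by omega), if_neg (by omega)]
  have : 23 + k - 23 = k := by omega
  rw [this]

theorem adj_dec {i j : ℕ} (hi : i < 100) (hj : j < 100) :
    (pointBlockGraph (stdSet P)).Adj (dec i) (dec j) ↔ adjC i j = true := by
  rcases code_cases hi with rfl | ⟨a, rfl⟩ | ⟨k, hk, rfl⟩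
  · rw [dec_zero, adj_none_iff, adjC_zero]
    rcases code_cases hj with rfl | ⟨a', rfl⟩ | ⟨k', hk', rfl⟩
    · rw [dec_zero]
      constructor
      · rintro ⟨a, ha⟩
        simp at ha
      · intro h
        simp at h
    · rw [dec_pt]
      have ha' : a'.val < 22 := a'.isLt
      constructor
      · intro _
        simp only [Bool.and_eq_true, decide_eq_true_eq]
        omega
      · intro _
        exact ⟨a', rfl⟩
    · rw [dec_blk hk']
      constructor
      · rintro ⟨a, ha⟩
        simp at ha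
      · intro h
        simp only [Bool.and_eq_true, decide_eq_true_eq] at h
        omega
  · rw [adjC_pt]
    rcases code_cases hj with rfl | ⟨a', rfl⟩ | ⟨k', hk', rfl⟩
    · rw [dec_zero, dec_pt, SimpleGraph.adj_comm, adj_none_iff]
      simp
    · rw [dec_pt, dec_pt]
      have ha' : a'.val < 22 := a'.isLt
      constructor
      · intro h
        exact absurd h (not_adj_inl_inl _ _ _)
      · intro h
        simp only [Nat.add_eq_zero_iff, one_ne_zero, and_false, decide_false, Bool.false_or,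
          Bool.and_eq_true, decide_eq_true_eq] at h
        omega
    · rw [adj_pt_blk a hk']
      have h1 : ¬ (23 + k' = 0) := by omega
      have h2 : 23 ≤ 23 + k' := by omega
      have h3 : 23 + k' - 23 = k' := by omega
      simp only [h1, h2, h3, decide_false, decide_true, Bool.false_or, Bool.true_and]
  · rw [adjC_blk]
    rcases code_cases hj with rfl | ⟨a', rfl⟩ | ⟨k', hk', rfl⟩
    · rw [dec_zero, dec_blk hk, SimpleGraph.adj_comm, adj_none_iff]
      constructor
      · rintro ⟨a, ha⟩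
        simp at ha
      · intro h
        simp at h
    · rw [SimpleGraph.adj_comm, adj_pt_blk a' hk]
      have ha' : a'.val < 22 := a'.isLt
      have h1 : 1 ≤ a'.val + 1 := by omega
      have h2 : a'.val + 1 ≤ 22 := by omega
      have h3 : ¬ (23 ≤ a'.val + 1) := by omega
      have h4 : a'.val + 1 - 1 = a'.val := by omega
      simp only [h1, h2, h3, h4, decide_true, decide_false, Bool.true_and, Bool.false_and,
        Bool.or_false]
    · rw [adj_blk_blk hk hk']
      have h1 : ¬ (1 ≤ 23 + k' ∧ 23 + k' ≤ 22) := by omega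
      have h2 : 23 ≤ 23 + k' := by omega
      have h3 : 23 + k' - 23 = k' := by omega
      have h4 : ¬ (23 + k' ≤ 22) := by omega
      simp only [h2, h3, h4, decide_true, decide_false, Bool.and_false, Bool.false_and,
        Bool.false_or, Bool.true_and, Bool.and_eq_true, Bool.not_eq_true',
        decide_eq_false_iff_not, beq_iff_eq]
      constructor
      · rintro ⟨h5, h6⟩
        exact ⟨fun h => h5 (by omega), h6⟩
      · rintro ⟨h5, h6⟩
        exact ⟨fun h => h5 (by omega), h6⟩

/-- the table of an automorphism. -/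
def sT : List ℕ := [1, 0, 37, 44, 53, 98, 99, 55, 97, 69, 79, 81, 71, 92, 66, 57, 64, 83, 95, 59, 75, 61, 88, 65, 80, 96, 24, 60, 87, 58, 74, 34, 36, 82, 68, 49, 73, 19, 54, 94, 78, 27, 45, 89, 17, 63, 70, 56, 91, 38, 33, 41, 35, 16, 39, 5, 50, 8, 85, 22, 67, 18, 28, 46, 4, 42, 9, 86, 77, 21, 84, 20, 25, 29, 30, 3, 26, 31, 32, 7, 72, 11, 62, 12, 23, 40, 48, 47, 6, 43, 52, 51, 10, 76, 90, 14, 93, 15, 13, 2]

/-- the table of its inverse. -/
def tT : List ℕ := [1, 0, 99, 75, 64, 55, 88, 79, 57, 66, 92, 81, 83, 98, 95, 97, 53, 44, 61, 37, 71, 69, 59, 84, 26, 72, 76, 41, 62, 73, 74, 77, 78, 50, 31, 52, 32, 2, 49, 54, 85, 51, 65, 89, 3, 42, 63, 87, 86, 35, 56, 91, 90, 4, 38, 7, 47, 15, 29, 19, 27, 21, 82, 45, 16, 23, 14, 60, 34, 9, 46, 12, 80, 36, 30, 20, 93, 68, 40, 10, 24, 11, 33, 17, 70, 58, 67, 28, 22, 43, 94, 48, 13, 96, 39, 18, 25, 8, 5, 6]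

/-- the automorphism on numbers. -/
def sC (i : ℕ) : ℕ := sT.getD i 0

/-- its inverse on numbers. -/
def tC (i : ℕ) : ℕ := tT.getD i 0

set_option maxRecDepth 100000 in
theorem tab_ok : (List.range 100).all (fun i => decide (sC i < 100) && decide (tC i < 100) &&
    decide (tC (sC i) = i) && decide (sC (tC i) = i)) = true := by decide +kernel

set_option maxHeartbeats 0 in
set_option maxRecDepth 1000000 in
theorem adj_ok : (List.range 100).all (fun i => (List.range 100).all (fun j =>
    adjC (sC i) (sC j) == adjC i j)) = true := by decide +kernel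

theorem tab_facts {i : ℕ} (hi : i < 100) :
    sC i < 100 ∧ tC i < 100 ∧ tC (sC i) = i ∧ sC (tC i) = i := by
  have := List.all_eq_true.1 tab_ok i (List.mem_range.2 hi)
  simp only [Bool.and_eq_true, decide_eq_true_eq] at this
  exact ⟨this.1.1.1, this.1.1.2, this.1.2, this.2⟩

theorem adj_fact {i j : ℕ} (hi : i < 100) (hj : j < 100) :
    adjC (sC i) (sC j) = adjC i j := by
  have := List.all_eq_true.1 (List.all_eq_true.1 adj_ok i (List.mem_range.2 hi)) j
    (List.mem_range.2 hj)
  simpa using this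

/-- the automorphism moving the extra vertex. -/
def sigma : pointBlockGraph (stdSet P) ≃g pointBlockGraph (stdSet P) where
  toFun v := dec (sC (enc v))
  invFun v := dec (tC (enc v))
  left_inv v := by
    simp only
    rw [enc_dec (tab_facts (enc_lt v)).1, (tab_facts (enc_lt v)).2.2.1, dec_enc]
  right_inv v := by
    simp only
    rw [enc_dec (tab_facts (enc_lt v)).2.1, (tab_facts (enc_lt v)).2.2.2, dec_enc]
  map_rel_iff' := by
    intro u v
    change (pointBlockGraph (stdSet P)).Adj (dec (sC (enc u))) (dec (sC (enc v))) ↔ _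
    rw [adj_dec (tab_facts (enc_lt u)).1 (tab_facts (enc_lt v)).1, adj_fact (enc_lt u) (enc_lt v),
      ← adj_dec (enc_lt u) (enc_lt v), dec_enc, dec_enc]

theorem sigma_apply (v : Option (Fin P.n ⊕ ↥(stdSet P))) : sigma v = dec (sC (enc v)) := rfl

/-- the point `0`. -/
def q0 : Fin P.n := ⟨0, by decide⟩

/-- the point `1`. -/
def q1 : Fin P.n := ⟨1, by decide⟩

theorem sigma_none : sigma none = some (Sum.inl q0) := by
  rw [sigma_apply]
  change dec (sC 0) = _
  have : sC 0 = q0.val + 1 := by decide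
  rw [this, dec_pt]

theorem sigma_q1 : ∃ b : ↥(stdSet P), sigma (some (Sum.inl q1)) = some (Sum.inr b) := by
  rw [sigma_apply]
  change ∃ b, dec (sC 2) = _
  have : sC 2 = 23 + 14 := by decide
  rw [this, dec_blk (by norm_num)]
  exact ⟨_, rfl⟩

end Cfsg.Agent.Helper9.HSG.Model
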