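import Mathlib
import Cfsg.Prelude.Def_Sporadic_a
import Cfsg.Agent.Helper9.HSG.Model

set_option autoImplicit false

/-!
Automorphisms of the numbered point-block graph given by tables, their signs as permutations of the
100 vertices, and an odd automorphism fixing the extra vertex.
-/

namespace Cfsg.Agent.Helper9.HSG.Model

open Cfsg Cfsg.Agent.Helper9.Steiner

/-- the automorphism given by a table and the table of its inverse. -/
def tabAut (s t : ℕ → ℕ)
    (hok : ∀ i, i < 100 → s i < 100 ∧ t i < 100 ∧ t (s i) = i ∧ s (t i) = i)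
    (hadj : ∀ i j, i < 100 → j < 100 → adjC (s i) (s j) = adjC i j) :
    pointBlockGraph (stdSet P) ≃g pointBlockGraph (stdSet P) where
  toFun v := dec (s (enc v))
  invFun v := dec (t (enc v))
  left_inv v := by
    simp only
    rw [enc_dec (hok _ (enc_lt v)).1, (hok _ (enc_lt v)).2.2.1, dec_enc]
  right_inv v := by
    simp only
    rw [enc_dec (hok _ (enc_lt v)).2.1, (hok _ (enc_lt v)).2.2.2, dec_enc]
  map_rel_iff' := by
    intro u v
    change (pointBlockGraph (stdSet P)).Adj (dec (s (enc u))) (dec (s (enc v))) ↔ _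
    rw [adj_dec (hok _ (enc_lt u)).1 (hok _ (enc_lt v)).1, hadj _ _ (enc_lt u) (enc_lt v),
      ← adj_dec (enc_lt u) (enc_lt v), dec_enc, dec_enc]

theorem tabAut_apply (s t : ℕ → ℕ)
    (hok : ∀ i, i < 100 → s i < 100 ∧ t i < 100 ∧ t (s i) = i ∧ s (t i) = i)
    (hadj : ∀ i j, i < 100 → j < 100 → adjC (s i) (s j) = adjC i j)
    (v : Option (Fin P.n ⊕ ↥(stdSet P))) : tabAut s t hok hadj v = dec (s (enc v)) := rfl

theorem enc_tabAut (s t : ℕ → ℕ)
    (hok : ∀ i, i < 100 → s i < 100 ∧ t i < 100 ∧ t (s i) = i ∧ s (t i) = i)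
    (hadj : ∀ i j, i < 100 → j < 100 → adjC (s i) (s j) = adjC i j)
    (v : Option (Fin P.n ⊕ ↥(stdSet P))) : enc (tabAut s t hok hadj v) = s (enc v) := by
  rw [tabAut_apply, enc_dec (hok _ (enc_lt v)).1]

/-- the numbering of the vertices as a bijection. -/
def codeEquiv : Option (Fin P.n ⊕ ↥(stdSet P)) ≃ Fin 100 where
  toFun v := ⟨enc v, enc_lt v⟩
  invFun i := dec i.val
  left_inv := dec_enc
  right_inv i := Fin.ext (enc_dec i.isLt)

/-- the permutation of the numbers given by a table and the table of its inverse. -/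
def finPerm (s t : ℕ → ℕ)
    (hok : ∀ i, i < 100 → s i < 100 ∧ t i < 100 ∧ t (s i) = i ∧ s (t i) = i) :
    Equiv.Perm (Fin 100) where
  toFun i := ⟨s i.val, (hok i.val i.isLt).1⟩
  invFun i := ⟨t i.val, (hok i.val i.isLt).2.1⟩
  left_inv i := Fin.ext (hok i.val i.isLt).2.2.1
  right_inv i := Fin.ext (hok i.val i.isLt).2.2.2

/-- the blocks form a finite type. -/
noncomputable instance fintypeBlocks : Fintype ↥(stdSet P) := Fintype.ofFinite _

/-- the sign of an automorphism as a permutation of the vertices. -/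
noncomputable def sgn : (pointBlockGraph (stdSet P) ≃g pointBlockGraph (stdSet P)) →* ℤˣ :=
  Equiv.Perm.sign.comp (MulAction.toPermHom
    (pointBlockGraph (stdSet P) ≃g pointBlockGraph (stdSet P)) (Option (Fin P.n ⊕ ↥(stdSet P))))

theorem sgn_tabAut (s t : ℕ → ℕ)
    (hok : ∀ i, i < 100 → s i < 100 ∧ t i < 100 ∧ t (s i) = i ∧ s (t i) = i)
    (hadj : ∀ i j, i < 100 → j < 100 → adjC (s i) (s j) = adjC i j) :
    sgn (tabAut s t hok hadj) = Equiv.Perm.sign (finPerm s t hok) := by
  unfold sgn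
  rw [MonoidHom.comp_apply]
  apply Equiv.Perm.sign_eq_sign_of_equiv _ _ codeEquiv
  intro v
  apply Fin.ext
  exact enc_tabAut s t hok hadj v

theorem sign_prod_swaps {X : Type*} [DecidableEq X] [Fintype X] (L : List (X × X))
    (h : ∀ p ∈ L, p.1 ≠ p.2) :
    Equiv.Perm.sign (L.map (fun p => Equiv.swap p.1 p.2)).prod = (-1) ^ L.length := by
  induction L with
  | nil => simp
  | cons p L ih =>
    rw [List.map_cons, List.prod_cons, map_mul,
      Equiv.Perm.sign_swap (h p List.mem_cons_self),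
      ih (fun q hq => h q (List.mem_cons_of_mem _ hq)), List.length_cons, pow_succ']

/-- the table of an odd automorphism fixing the extra vertex. -/
def uT : List ℕ := [0, 14, 16, 19, 21, 4, 6, 17, 22, 8, 10, 11, 12, 15, 13, 1, 2, 3, 5, 7, 9, 18, 20, 90, 44, 98, 99, 65, 97, 60, 79, 87, 69, 34, 71, 36, 92, 96, 77, 38, 91, 85, 41, 70, 66, 46, 57, 47, 82, 50, 64, 51, 94, 27, 54, 55, 89, 67, 61, 39, 25, 56, 72, 73, 84, 81, 80, 45, 78, 30, 40, 83, 62, 74, 88, 42, 93, 59, 68, 32, 24, 53, 52, 33, 49, 75, 86, 26, 63, 58, 76, 43, 95, 23, 48, 35, 37, 28, 29, 31]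

/-- the table of its inverse. -/
def vT : List ℕ := [0, 15, 16, 17, 5, 18, 6, 19, 9, 20, 10, 11, 12, 14, 1, 13, 2, 7, 21, 3, 22, 4, 8, 93, 80, 60, 87, 53, 97, 98, 69, 99, 79, 83, 33, 95, 35, 96, 39, 59, 70, 42, 75, 91, 24, 67, 45, 47, 94, 84, 49, 51, 82, 81, 54, 55, 61, 46, 89, 77, 29, 58, 72, 88, 50, 27, 44, 57, 78, 32, 43, 34, 62, 63, 73, 85, 90, 38, 68, 30, 66, 65, 48, 71, 64, 41, 86, 31, 74, 56, 23, 40, 36, 76, 52, 92, 37, 28, 25, 26]

/-- the automorphism on numbers. -/
def uC (i : ℕ) : ℕ := uT.getD i 0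

/-- its inverse on numbers. -/
def vC (i : ℕ) : ℕ := vT.getD i 0

set_option maxRecDepth 100000 in
theorem utab_ok : (List.range 100).all (fun i => decide (uC i < 100) && decide (vC i < 100) &&
    decide (vC (uC i) = i) && decide (uC (vC i) = i)) = true := by decide +kernel

set_option maxHeartbeats 0 in
set_option maxRecDepth 1000000 in
theorem uadj_ok : (List.range 100).all (fun i => (List.range 100).all (fun j =>
    adjC (uC i) (uC j) == adjC i j)) = true := by decide +kernel

theorem utab_facts (i : ℕ) (hi : i < 100) :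
    uC i < 100 ∧ vC i < 100 ∧ vC (uC i) = i ∧ uC (vC i) = i := by
  have := List.all_eq_true.1 utab_ok i (List.mem_range.2 hi)
  simp only [Bool.and_eq_true, decide_eq_true_eq] at this
  exact ⟨this.1.1.1, this.1.1.2, this.1.2, this.2⟩

theorem uadj_fact (i j : ℕ) (hi : i < 100) (hj : j < 100) :
    adjC (uC i) (uC j) = adjC i j := by
  have := List.all_eq_true.1 (List.all_eq_true.1 uadj_ok i (List.mem_range.2 hi)) j
    (List.mem_range.2 hj)
  simpa using this

/-- the odd automorphism fixing the extra vertex. -/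
def tau : pointBlockGraph (stdSet P) ≃g pointBlockGraph (stdSet P) :=
  tabAut uC vC utab_facts uadj_fact

theorem tau_none : tau none = none := by
  unfold tau
  rw [tabAut_apply]
  change dec (uC 0) = none
  have : uC 0 = 0 := by decide
  rw [this]
  rfl

/-- the transpositions whose product is the permutation of the numbers given by `tau`. -/
def swapsL : List (Fin 100 × Fin 100) := [(1, 14), (14, 13), (13, 15), (2, 16), (3, 19), (19, 7), (7, 17), (4, 21), (21, 18), (18, 5), (8, 22), (22, 20), (20, 9), (23, 90), (90, 76), (76, 93), (24, 44), (44, 66), (66, 80), (25, 98), (98, 29), (29, 60), (26, 99), (99, 31), (31, 87), (27, 65), (65, 81), (81, 53), (28, 97), (30, 79), (79, 32), (32, 69), (33, 34), (34, 71), (71, 83), (35, 36), (36, 92), (92, 95), (37, 96), (38, 77), (77, 59), (59, 39), (40, 91), (91, 43), (43, 70), (41, 85), (85, 75), (75, 42), (45, 46), (46, 57), (57, 67), (48, 82), (82, 52), (52, 94), (49, 50), (50, 64), (64, 84), (56, 89), (89, 58), (58, 61), (62, 72), (63, 73),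 (73, 74), (74, 88), (68, 78)]

set_option maxRecDepth 100000 in
theorem swapsL_ne : ∀ p ∈ swapsL, p.1 ≠ p.2 := by decide +kernel

set_option maxHeartbeats 0 in
set_option maxRecDepth 1000000 in
theorem finPerm_tau_apply : ∀ i : Fin 100, (finPerm uC vC utab_facts) i =
    (swapsL.map (fun p => Equiv.swap p.1 p.2)).prod i := by decide +kernel

theorem swapsL_length : swapsL.length = 65 := by decide

theorem sgn_tau : sgn tau = -1 := by
  unfold tau
  rw [sgn_tabAut]
  have h : finPerm uC vC utab_facts = (swapsL.map (fun p => Equiv.swap p.1 p.2)).prod :=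
    Equiv.ext finPerm_tau_apply
  rw [h, sign_prod_swaps _ swapsL_ne, swapsL_length]
  decide

theorem sigma_eq : sigma = tabAut sC tC (fun _ hi => tab_facts hi) (fun _ _ hi hj => adj_fact hi hj) :=
  rfl

end Cfsg.Agent.Helper9.HSG.Model
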