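import Mathlib
import Cfsg.Prelude.Def_Sporadic_a
import Cfsg.Agent.Helper9.HSG.AutOf

set_option autoImplicit false

/-!
The automorphisms of the point-block graph fixing the extra vertex are induced by the automorphisms
of the set system.
-/

namespace Cfsg.Agent.Helper9.HSG

open Cfsg Cfsg.Agent.Helper9.Steiner

variable {α : Type*} [DecidableEq α] (B : Set (Finset α))

theorem exists_of_fix_none [Finite α] (φ : pointBlockGraph B ≃g pointBlockGraph B)
    (hφ : φ none = none) : ∃ g : setSystemAut B, autOf B g = φ := by
  classical
  have hpt : ∀ a : α, ∃ a', φ (some (Sum.inl a)) = some (Sum.inl a') := by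
    intro a
    have h := adj_none_inl B a
    have h' : (pointBlockGraph B).Adj (φ none) (φ (some (Sum.inl a))) := φ.map_rel_iff.2 h
    rw [hφ, adj_none_iff] at h'
    exact h'
  choose f hf using hpt
  have hfinj : Function.Injective f := by
    intro a a' h
    have : φ (some (Sum.inl a)) = φ (some (Sum.inl a')) := by rw [hf, hf, h]
    exact Sum.inl_injective (Option.some_injective _ (φ.injective this))
  have hfbij : Function.Bijective f := ⟨hfinj, Finite.injective_iff_surjective.1 hfinj⟩
  let g : Equiv.Perm α := Equiv.ofBijective f hfbij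
  have hblk : ∀ b : B, ∃ b' : B, φ (some (Sum.inr b)) = some (Sum.inr b') := by
    intro b
    rcases hv : φ (some (Sum.inr b)) with _ | (a' | b')
    · exfalso
      rw [← hφ] at hv
      exact absurd (φ.injective hv) (by simp)
    · exfalso
      obtain ⟨a, ha⟩ := hfbij.2 a'
      rw [← ha, ← hf] at hv
      exact absurd (φ.injective hv) (by simp)
    · exact ⟨b', rfl⟩
  choose k hk using hblk
  have hkb : ∀ b : B, ((k b : B) : Finset α) = (b : Finset α).image g := by
    intro b
    ext a'
    obtain ⟨a, rfl⟩ := hfbij.2 a'
    rw [← adj_inl_inr B (f a) (k b), ← hf, ← hk, φ.map_rel_iff, adj_inl_inr]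
    constructor
    · intro h
      exact Finset.mem_image_of_mem g h
    · intro h
      rw [Finset.mem_image] at h
      obtain ⟨a0, ha0, h0⟩ := h
      have : a0 = a := hfinj h0
      rwa [← this]
  have hkinj : Function.Injective k := by
    intro b b' h
    have : φ (some (Sum.inr b)) = φ (some (Sum.inr b')) := by rw [hk, hk, h]
    exact Sum.inr_injective (Option.some_injective _ (φ.injective this))
  haveI : Finite B := Finite.of_injective (fun b : B => (b : Finset α)) Subtype.val_injective
  have hksurj : Function.Surjective k := Finite.injective_iff_surjective.1 hkinj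
  have hgB : g ∈ setSystemAut B := by
    rw [mem_aut_iff]
    apply Set.Subset.antisymm
    · rintro c ⟨b, hb, rfl⟩
      have := hkb ⟨b, hb⟩
      simp only at this ⊢
      rw [← this]
      exact (k ⟨b, hb⟩).2
    · intro c hc
      obtain ⟨b, hb⟩ := hksurj ⟨c, hc⟩
      refine ⟨b, b.2, ?_⟩
      simp only
      rw [← hkb b, hb]
  refine ⟨⟨g, hgB⟩, ?_⟩
  apply RelIso.ext
  intro x
  rcases x with _ | (a | b)
  · rw [autOf_apply, smul_none, hφ]
  · rw [autOf_apply, smul_inl, hf]
    rfl
  · rw [autOf_apply, smul_inr, hk]
    congr 2
    apply Subtype.ext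
    rw [coe_smul_block, hkb]

/-- the automorphisms fixing the extra vertex are the image of the automorphism group of the set
system. -/
theorem range_autOf [Finite α] :
    (autOf B).range = MulAction.stabilizer (pointBlockGraph B ≃g pointBlockGraph B)
      (none : Option (α ⊕ B)) := by
  ext φ
  rw [MonoidHom.mem_range, MulAction.mem_stabilizer_iff]
  constructor
  · rintro ⟨g, rfl⟩
    rfl
  · intro h
    exact exists_of_fix_none B φ h

theorem card_stabilizer_none [Finite α] :
    Nat.card (MulAction.stabilizer (pointBlockGraph B ≃g pointBlockGraph B)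
      (none : Option (α ⊕ B))) = Nat.card (setSystemAut B) := by
  rw [← range_autOf]
  exact (Nat.card_congr (MonoidHom.ofInjective (autOf_injective B)).toEquiv).symm

end Cfsg.Agent.Helper9.HSG
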