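import Mathlib
import Cfsg.Prelude.Def_Sporadic_a
import Cfsg.Agent.Helper9.HSG.Stab

set_option autoImplicit false

/-!
Vertex transitivity of the automorphism group of the point-block graph of a Steiner system with a
multiply transitive automorphism group, from one automorphism moving the extra vertex; the order of
the automorphism group.
-/

namespace Cfsg.Agent.Helper9.HSG

open Cfsg Cfsg.Agent.Helper9.Steiner

variable {α : Type*} [Fintype α] [DecidableEq α]

/-- a `t`-transitive automorphism group of a Steiner system `S(t, k, v)` is transitive on blocks. -/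
theorem block_transitive {t k : ℕ} {B : Set (Finset α)} (hB : IsSteinerSystem t k B)
    (htk : t ≤ k) (htr : MulAction.IsMultiplyPretransitive (setSystemAut B) α t) (b c : B) :
    ∃ g : setSystemAut B, g • b = c := by
  have hbc : t ≤ (b : Finset α).card := by rw [hB.1 _ b.2]; exact htk
  have hcc : t ≤ (c : Finset α).card := by rw [hB.1 _ c.2]; exact htk
  obtain ⟨s, hsb, hs⟩ := Finset.exists_subset_card_eq hbc
  obtain ⟨u, huc, hu⟩ := Finset.exists_subset_card_eq hcc
  let x : Fin t ↪ α := (Finset.equivFinOfCardEq hs).symm.toEmbedding.trans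
    (Function.Embedding.subtype _)
  let y : Fin t ↪ α := (Finset.equivFinOfCardEq hu).symm.toEmbedding.trans
    (Function.Embedding.subtype _)
  rw [MulAction.isMultiplyPretransitive_iff] at htr
  obtain ⟨g, hg⟩ := htr x y
  have hgx : ∀ i, (g : Equiv.Perm α) (x i) = y i := by
    intro i
    have := congrArg (fun f : Fin t ↪ α => f i) hg
    exact this
  refine ⟨g, ?_⟩
  obtain ⟨d, _, huniq⟩ := hB.2 u hu
  have h1 : ((g • b : B) : Finset α) = d := by
    apply huniq
    refine ⟨(g • b).2, ?_⟩
    intro a ha
    rw [coe_smul_block, Finset.mem_image]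
    have : (Finset.equivFinOfCardEq hu).symm ((Finset.equivFinOfCardEq hu) ⟨a, ha⟩) = ⟨a, ha⟩ :=
      Equiv.symm_apply_apply _ _
    refine ⟨x ((Finset.equivFinOfCardEq hu) ⟨a, ha⟩), hsb ?_, ?_⟩
    · exact ((Finset.equivFinOfCardEq hs).symm _).2
    · rw [hgx]
      change (((Finset.equivFinOfCardEq hu).symm ((Finset.equivFinOfCardEq hu) ⟨a, ha⟩) : u) : α) = a
      rw [this]
  have h2 : (c : Finset α) = d := huniq _ ⟨c.2, huc⟩
  apply Subtype.ext
  rw [h1, ← h2]

/-- vertex transitivity from one automorphism moving the extra vertex to a point and a point to a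
block. -/
theorem exists_move_none {B : Set (Finset α)} (hB : IsSteinerSystem 3 6 B)
    (htr : MulAction.IsMultiplyPretransitive (setSystemAut B) α 3) (h3 : 3 ≤ Fintype.card α)
    (σ : pointBlockGraph B ≃g pointBlockGraph B) (a0 a1 : α) (c0 : B)
    (h0 : σ none = some (Sum.inl a0)) (h1 : σ (some (Sum.inl a1)) = some (Sum.inr c0))
    (v : Option (α ⊕ B)) : ∃ φ : pointBlockGraph B ≃g pointBlockGraph B, φ none = v := by
  haveI := htr
  haveI h1tr : MulAction.IsPretransitive (setSystemAut B) α := by
    rw [← MulAction.is_one_pretransitive_iff]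
    exact MulAction.isMultiplyPretransitive_of_le (n := 3) (by norm_num)
      (by rw [Nat.card_eq_fintype_card]; exact h3)
  have hpt : ∀ a : α, ∃ φ : pointBlockGraph B ≃g pointBlockGraph B, φ none = some (Sum.inl a) := by
    intro a
    obtain ⟨g, hg⟩ := MulAction.exists_smul_eq (setSystemAut B) a0 a
    refine ⟨autOf B g * σ, ?_⟩
    rw [RelIso.mul_apply, h0, autOf_apply, smul_inl]
    congr 2
  rcases v with _ | (a | b)
  · exact ⟨1, rfl⟩
  · exact hpt a
  · obtain ⟨φ1, hφ1⟩ := hpt a1
    obtain ⟨g, hg⟩ := block_transitive hB (by norm_num) htr c0 b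
    refine ⟨autOf B g * (σ * φ1), ?_⟩
    rw [RelIso.mul_apply, RelIso.mul_apply, hφ1, h1, autOf_apply, smul_inr, hg]

theorem pretransitive_of_move {B : Set (Finset α)} (hB : IsSteinerSystem 3 6 B)
    (htr : MulAction.IsMultiplyPretransitive (setSystemAut B) α 3) (h3 : 3 ≤ Fintype.card α)
    (σ : pointBlockGraph B ≃g pointBlockGraph B) (a0 a1 : α) (c0 : B)
    (h0 : σ none = some (Sum.inl a0)) (h1 : σ (some (Sum.inl a1)) = some (Sum.inr c0)) :
    MulAction.IsPretransitive (pointBlockGraph B ≃g pointBlockGraph B) (Option (α ⊕ B)) := by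
  constructor
  intro u v
  obtain ⟨φu, hu⟩ := exists_move_none hB htr h3 σ a0 a1 c0 h0 h1 u
  obtain ⟨φv, hv⟩ := exists_move_none hB htr h3 σ a0 a1 c0 h0 h1 v
  refine ⟨φv * φu⁻¹, ?_⟩
  rw [RelIso.smul_def, RelIso.mul_apply, ← hu, RelIso.inv_apply_self, hv]

/-- the order of the automorphism group of the point-block graph. -/
theorem card_aut_graph {B : Set (Finset α)}
    (htr : MulAction.IsPretransitive (pointBlockGraph B ≃g pointBlockGraph B) (Option (α ⊕ B))) :
    Nat.card (pointBlockGraph B ≃g pointBlockGraph B) =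
      Nat.card (Option (α ⊕ B)) * Nat.card (setSystemAut B) := by
  haveI := htr
  rw [← card_stabilizer_none B, ← MulAction.index_stabilizer_of_transitive
    (pointBlockGraph B ≃g pointBlockGraph B) (none : Option (α ⊕ B)), Subgroup.index_mul_card]

end Cfsg.Agent.Helper9.HSG
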