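import Mathlib
import Cfsg.Prelude.Def_Sporadic_a
import Cfsg.Prelude.Def_Sporadic
import Cfsg.Agent.Helper9.HSG.Model2
import Cfsg.Agent.Helper9.HSG.Trans
import Cfsg.Agent.Helper9.HSG.Group
import Cfsg.Agent.Helper9.PrimSimple
import Cfsg.Agent.Helper9.PrimSimple2

set_option autoImplicit false

/-!
The even automorphisms of the point-block graph of the standard system S(3, 6, 22) form a simple
group of order `44352000`.
-/

namespace Cfsg.Agent.Helper9.HSG.Model

open Cfsg Cfsg.Agent.Helper9.Steiner Cfsg.Agent.Helper9.HSG MulAction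

/-- the even automorphisms. -/
noncomputable def evenAut :
    Subgroup (pointBlockGraph (stdSet P) ≃g pointBlockGraph (stdSet P)) := sgn.ker

theorem card_n : Fintype.card (Fin P.n) = 22 := by
  rw [Fintype.card_fin]; rfl

theorem card_blocks (hstd : IsSteinerSystem 3 6 (stdSet P)) : Nat.card ↥(stdSet P) = 77 := by
  have := steiner_card hstd
  rw [card_n] at this
  have h20 : Nat.choose 6 3 = 20 := by decide
  have h1540 : Nat.choose 22 3 = 1540 := by decide
  rw [h20, h1540] at this
  omega

theorem card_vertices (hstd : IsSteinerSystem 3 6 (stdSet P)) :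
    Nat.card (Option (Fin P.n ⊕ ↥(stdSet P))) = 100 := by
  rw [Finite.card_option, Nat.card_sum, card_blocks hstd, Nat.card_eq_fintype_card, card_n]

theorem graph_pretransitive (hstd : IsSteinerSystem 3 6 (stdSet P))
    (htr : IsMultiplyPretransitive (setSystemAut (stdSet P)) (Fin P.n) 3) :
    IsPretransitive (pointBlockGraph (stdSet P) ≃g pointBlockGraph (stdSet P))
      (Option (Fin P.n ⊕ ↥(stdSet P))) := by
  obtain ⟨c0, hc0⟩ := sigma_q1
  exact pretransitive_of_move hstd htr (by rw [card_n]; norm_num) sigma q0 q1 c0 sigma_none hc0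

theorem card_graph_aut (hstd : IsSteinerSystem 3 6 (stdSet P))
    (htr : IsMultiplyPretransitive (setSystemAut (stdSet P)) (Fin P.n) 3)
    (hc : Nat.card (setSystemAut (stdSet P)) = 887040) :
    Nat.card (pointBlockGraph (stdSet P) ≃g pointBlockGraph (stdSet P)) = 88704000 := by
  rw [card_aut_graph (graph_pretransitive hstd htr), hc, card_vertices hstd]

theorem index_evenAut : evenAut.index = 2 := index_ker_of_neg_one sgn tau sgn_tau

theorem card_evenAut (hstd : IsSteinerSystem 3 6 (stdSet P))
    (htr : IsMultiplyPretransitive (setSystemAut (stdSet P)) (Fin P.n) 3)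
    (hc : Nat.card (setSystemAut (stdSet P)) = 887040) : Nat.card evenAut = 44352000 := by
  have h := Subgroup.index_mul_card evenAut
  rw [index_evenAut, card_graph_aut hstd htr hc] at h
  omega

theorem evenAut_pretransitive (hstd : IsSteinerSystem 3 6 (stdSet P))
    (htr : IsMultiplyPretransitive (setSystemAut (stdSet P)) (Fin P.n) 3) :
    IsPretransitive evenAut (Option (Fin P.n ⊕ ↥(stdSet P))) := by
  haveI := graph_pretransitive hstd htr
  have hmove : ∀ v : Option (Fin P.n ⊕ ↥(stdSet P)), ∃ h : evenAut, h • (none : Option _) = v := by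
    intro v
    obtain ⟨h, hh, hv⟩ := exists_ker_smul_eq sgn (none : Option (Fin P.n ⊕ ↥(stdSet P))) tau
      sgn_tau tau_none v
    exact ⟨⟨h, hh⟩, hv⟩
  constructor
  intro u v
  obtain ⟨hu, hu'⟩ := hmove u
  obtain ⟨hv, hv'⟩ := hmove v
  refine ⟨hv * hu⁻¹, ?_⟩
  rw [← hu', ← hv', mul_smul, inv_smul_smul]

end Cfsg.Agent.Helper9.HSG.Model
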