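import Mathlib
import Cfsg.Prelude.Def_Sporadic_a
import Cfsg.Prelude.Def_Sporadic
import Cfsg.Agent.Helper9.HSG.Even

set_option autoImplicit false

/-!
The even automorphisms of the point-block graph of the standard system S(3, 6, 22) form a simple
group: the stabilizer of the extra vertex, primitivity and simplicity.
-/

namespace Cfsg.Agent.Helper9.HSG.Model

open Cfsg Cfsg.Agent.Helper9.Steiner Cfsg.Agent.Helper9.HSG MulAction

section

variable (hstd : IsSteinerSystem 3 6 (stdSet P))
  (htr : IsMultiplyPretransitive (setSystemAut (stdSet P)) (Fin P.n) 3)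
  (K : Subgroup (setSystemAut (stdSet P))) (hK2 : K.index = 2) (hKs : IsSimpleGroup K)
  (hKc : Nat.card K = 443520)

include hKs hKc in
theorem sgn_autOf_of_mem {k : setSystemAut (stdSet P)} (hk : k ∈ K) :
    sgn (autOf (stdSet P) k) = 1 :=
  hom_trivial_of_simple (K := K) (by rw [hKc]; norm_num)
    ((sgn.comp (autOf (stdSet P))).comp K.subtype) ⟨k, hk⟩

include hK2 hKs hKc in
theorem mem_of_sgn_autOf {g : setSystemAut (stdSet P)} (hg : sgn (autOf (stdSet P) g) = 1) :
    g ∈ K := by
  obtain ⟨g0, hg0⟩ := exists_of_fix_none (stdSet P) tau tau_none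
  have hg0K : g0 ∉ K := by
    intro h
    have h1 := sgn_autOf_of_mem K hKs hKc h
    rw [hg0, sgn_tau] at h1
    exact absurd h1 (by decide)
  by_contra hgK
  have h1 : g0⁻¹ * g ∈ K := by
    rw [Subgroup.mul_mem_iff_of_index_two hK2, inv_mem_iff]
    exact ⟨fun h => absurd h hg0K, fun h => absurd h hgK⟩
  have h2 := sgn_autOf_of_mem K hKs hKc h1
  rw [map_mul, map_mul, map_inv, map_inv, hg0, sgn_tau, hg] at h2
  exact absurd h2 (by decide)

include hKs hKc in
/-- the stabilizer of the extra vertex in the group of even automorphisms. -/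
noncomputable def stabHom : K →* stabilizer evenAut (none : Option (Fin P.n ⊕ ↥(stdSet P))) where
  toFun k := ⟨⟨autOf (stdSet P) k.1, MonoidHom.mem_ker.2 (sgn_autOf_of_mem K hKs hKc k.2)⟩,
    mem_stabilizer_iff.2 rfl⟩
  map_one' := by
    apply Subtype.ext
    apply Subtype.ext
    exact map_one _
  map_mul' a b := by
    apply Subtype.ext
    apply Subtype.ext
    exact map_mul _ _ _

theorem stabHom_coe (k : K) :
    (((stabHom K hKs hKc k : stabilizer evenAut (none : Option (Fin P.n ⊕ ↥(stdSet P)))) :
      evenAut) : pointBlockGraph (stdSet P) ≃g pointBlockGraph (stdSet P)) =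
      autOf (stdSet P) k.1 := rfl

include hK2 in
theorem stabHom_bijective : Function.Bijective (stabHom K hKs hKc) := by
  constructor
  · intro a b h
    have h1 : autOf (stdSet P) a.1 = autOf (stdSet P) b.1 := by
      rw [← stabHom_coe K hKs hKc a, ← stabHom_coe K hKs hKc b, h]
    exact Subtype.ext (autOf_injective _ h1)
  · intro h
    have hfix : (h.1.1 : pointBlockGraph (stdSet P) ≃g pointBlockGraph (stdSet P)) none = none :=
      mem_stabilizer_iff.1 h.2
    obtain ⟨g, hg⟩ := exists_of_fix_none (stdSet P) h.1.1 hfix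
    have hsg : sgn (autOf (stdSet P) g) = 1 := by
      rw [hg]; exact MonoidHom.mem_ker.1 h.1.2
    refine ⟨⟨g, mem_of_sgn_autOf K hK2 hKs hKc hsg⟩, ?_⟩
    apply Subtype.ext
    apply Subtype.ext
    exact hg

include hK2 hKs hKc in
theorem stab_simple :
    IsSimpleGroup (stabilizer evenAut (none : Option (Fin P.n ⊕ ↥(stdSet P)))) :=
  (MulEquiv.ofBijective (stabHom K hKs hKc)
    (stabHom_bijective K hK2 hKs hKc)).symm.isSimpleGroup_congr.2 hKs

include htr hK2 hKc in
theorem K_trans_points : IsPretransitive K (Fin P.n) := by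
  haveI := htr
  haveI h2 : IsMultiplyPretransitive (setSystemAut (stdSet P)) (Fin P.n) 2 :=
    isMultiplyPretransitive_of_le (n := 3) (by norm_num)
      (by rw [Nat.card_eq_fintype_card, card_n]; norm_num)
  haveI : IsPreprimitive (setSystemAut (stdSet P)) (Fin P.n) :=
    isPreprimitive_of_is_two_pretransitive h2
  haveI : K.Normal := Subgroup.normal_of_index_eq_two hK2
  have hne : K ≠ ⊥ := by
    intro h
    rw [h, Subgroup.card_bot] at hKc
    omega
  exact Cfsg.Agent.Helper9.prim_normal_trans (X := Fin P.n) K hne

include hstd htr hK2 in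
theorem K_trans_blocks : IsPretransitive K ↥(stdSet P) := by
  haveI : IsPretransitive (setSystemAut (stdSet P)) ↥(stdSet P) :=
    ⟨fun b c => block_transitive hstd (by norm_num) htr b c⟩
  exact pretransitive_of_index_two K hK2 (by rw [card_blocks hstd]; decide)

/-- the colours of the vertices. -/
def colour : Option (Fin P.n ⊕ ↥(stdSet P)) → ℤ
  | none => 0
  | some (Sum.inl _) => 1
  | some (Sum.inr _) => 2

include hstd in
theorem ncard_colour (c : ℤ) (hc : c ∈ ({1, 2} : Finset ℤ)) :
    {y : Option (Fin P.n ⊕ ↥(stdSet P)) | colour y = c}.ncard = if c = 1 then 22 else 77 := by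
  rw [Finset.mem_insert, Finset.mem_singleton] at hc
  rcases hc with rfl | rfl
  · have : {y : Option (Fin P.n ⊕ ↥(stdSet P)) | colour y = 1} =
        (fun a : Fin P.n => (some (Sum.inl a) : Option (Fin P.n ⊕ ↥(stdSet P)))) '' Set.univ := by
      ext y
      rcases y with _ | (a | b)
      · simp [colour]
      · simp [colour]
      · simp [colour]
    rw [this, Set.ncard_image_of_injective _
      (fun a a' h => Sum.inl_injective (Option.some_injective _ h)), Set.ncard_univ,
      Nat.card_eq_fintype_card, card_n]
    rfl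
  · have : {y : Option (Fin P.n ⊕ ↥(stdSet P)) | colour y = 2} =
        (fun b : ↥(stdSet P) => (some (Sum.inr b) : Option (Fin P.n ⊕ ↥(stdSet P)))) ''
          Set.univ := by
      ext y
      rcases y with _ | (a | b)
      · simp [colour]
      · simp [colour]
      · simp [colour]
    rw [this, Set.ncard_image_of_injective _
      (fun a a' h => Sum.inr_injective (Option.some_injective _ h)), Set.ncard_univ,
      card_blocks hstd]
    rfl

include hstd htr hK2 hKs hKc in
theorem evenAut_preprimitive :
    IsPreprimitive evenAut (Option (Fin P.n ⊕ ↥(stdSet P))) := by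
  haveI := evenAut_pretransitive hstd htr
  haveI : Finite ↥(stdSet P) := Nat.finite_of_card_ne_zero (by rw [card_blocks hstd]; norm_num)
  refine Cfsg.Agent.Helper9.preprimitive_of_colours (none : Option (Fin P.n ⊕ ↥(stdSet P)))
    colour ({1, 2} : Finset ℤ) (fun c => if c = 1 then 22 else 77) 100 (card_vertices hstd)
    (by decide) (ncard_colour hstd) (by decide) ?_ (by decide)
  intro y y' hy hyy'
  rcases y with _ | (a | b)
  · exact absurd hy (by decide)
  · rcases y' with _ | (a' | b')
    · exact absurd hyy' (by simp [colour])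
    · haveI := K_trans_points htr K hK2 hKc
      obtain ⟨k, hk⟩ := exists_smul_eq K a a'
      refine ⟨(stabHom K hKs hKc k).1, (stabHom K hKs hKc k).2, ?_⟩
      change (autOf (stdSet P) k.1) (some (Sum.inl a)) = some (Sum.inl a')
      rw [autOf_apply, smul_inl]
      congr 2
    · exact absurd hyy' (by simp [colour])
  · rcases y' with _ | (a' | b')
    · exact absurd hyy' (by simp [colour])
    · exact absurd hyy' (by simp [colour])
    · haveI := K_trans_blocks hstd htr K hK2
      obtain ⟨k, hk⟩ := exists_smul_eq K b b'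
      refine ⟨(stabHom K hKs hKc k).1, (stabHom K hKs hKc k).2, ?_⟩
      change (autOf (stdSet P) k.1) (some (Sum.inr b)) = some (Sum.inr b')
      rw [autOf_apply, smul_inr]
      congr 2

include hstd htr hK2 hKs hKc in
theorem evenAut_simple : IsSimpleGroup evenAut := by
  haveI := evenAut_preprimitive hstd htr K hK2 hKs hKc
  have hs := stab_simple K hK2 hKs hKc
  exact Cfsg.Agent.Helper9.simple_of_prim_stab_simple
    (none : Option (Fin P.n ⊕ ↥(stdSet P))) hs
    (fun N hN hc => Cfsg.Agent.Helper9.no_regular_100 (card_vertices hstd) N hN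
      (hc.trans (card_vertices hstd)))

end

end Cfsg.Agent.Helper9.HSG.Model
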