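import Mathlib
import Cfsg.Prelude.Def_Sporadic_a
import Cfsg.Prelude.Def_Sporadic
import Cfsg.Agent.Helper9.HSG.Congr

set_option autoImplicit false

/-!
Transfer of a simple subgroup of given order between the automorphism groups of the point-block
graphs of isomorphic set systems.
-/

namespace Cfsg.Agent.Helper9.HSG

open Cfsg Cfsg.Agent.Helper9.Steiner

theorem transfer_isHS {α β : Type*} [DecidableEq α] [DecidableEq β] (e : α ≃ β)
    (B : Set (Finset α)) (B' : Set (Finset β)) (h : mapSys e B = B')
    (H' : Subgroup (pointBlockGraph B' ≃g pointBlockGraph B')) (hH' : IsHS H') :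
    ∃ H : Subgroup (pointBlockGraph B ≃g pointBlockGraph B), IsHS H := by
  subst h
  let ψ := autIsoCongr (pbgCongr e B)
  refine ⟨H'.map ψ.symm.toMonoidHom, ?_, ?_⟩
  · haveI := hH'.1
    exact (ψ.symm.subgroupMap H').symm.isSimpleGroup_congr.2 inferInstance
  · exact (Nat.card_congr (ψ.symm.subgroupMap H').toEquiv).symm.trans hH'.2

end Cfsg.Agent.Helper9.HSG
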